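import Groth.Agent.LC.LiaisonLink
import Groth.Agent.LC.GorQuot
import Groth.Agent.GrpdSlice.Alg
import Groth.Agent.FlatLoc6.Miracle

/-!
# Residual ideals and regular sequences in Gorenstein local rings
-/

set_option autoImplicit false
set_option linter.style.haveILetI false

universe u

open IsLocalRing CategoryTheory RingTheory.Sequence
open scoped Pointwise

namespace Groth.Agent.ResidualLib

variable {A : Type u} [CommRing A] [LocCoh.IsGorensteinLocalRing A]

/-- Maps out of an ideal with maximal Cohen-Macaulay quotient are multiplications. -/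
theorem exists_eq_mul (I : Ideal A) [LocCoh.IsCohenMacaulayLocalRing (A ⧸ I)]
    (hI : ringKrullDim (A ⧸ I) = ringKrullDim A) (g : I →ₗ[A] A) :
    ∃ c : A, ∀ z : I, g z = c * z := by
  obtain ⟨d, hd, -, -⟩ := LC.gorenstein_basic (R := A)
  have hM := LC.Liaison.ext_zero_of_H_low hd (A ⧸ I)
    (fun j hj => LC.Liaison.subsingleton_H_of_CM_quot I (hI.trans hd) j hj)
  let T : ShortComplex (ModuleCat.{u} A) := ShortComplex.mk (ModuleCat.ofHom I.subtype) (ModuleCat.ofHom I.mkQ)
    (ModuleCat.hom_ext (LinearMap.ext fun z => (Submodule.Quotient.mk_eq_zero _).2 z.2))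
  have hT : T.ShortExact :=
    { exact := (ShortComplex.ShortExact.moduleCat_exact_iff_function_exact _).2 (LinearMap.exact_subtype_mkQ I)
      mono_f := (ModuleCat.mono_iff_injective _).2 Subtype.val_injective
      epi_g := (ModuleCat.epi_iff_surjective _).2 (Submodule.mkQ_surjective _) }
  obtain ⟨x₂, hx₂⟩ := Abelian.Ext.contravariant_sequence_exact₁ hT (ModuleCat.of A A)
    (Abelian.Ext.mk₀ (ModuleCat.ofHom g)) (n₁ := 1) (add_comm 1 0) (@Subsingleton.elim _ (hM 1 one_pos) _ _)
  obtain ⟨f₂, rfl⟩ := (Abelian.Ext.mk₀_bijective _ _).2 x₂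
  rw [Abelian.Ext.mk₀_comp_mk₀] at hx₂
  have h := congrArg ModuleCat.Hom.hom ((Abelian.Ext.mk₀_bijective _ _).1 hx₂)
  refine ⟨f₂.hom (1 : A), fun z => ?_⟩
  rw [show g z = f₂.hom (z : A) from (LinearMap.congr_fun h z).symm, mul_comm, ← smul_eq_mul,
    ← map_smul, smul_eq_mul, mul_one]

/-- A regular element of the ring is regular on a maximal Cohen-Macaulay quotient. -/
theorem isSMulRegular_quotient (I : Ideal A) [LocCoh.IsCohenMacaulayLocalRing (A ⧸ I)]
    (hI : ringKrullDim (A ⧸ I) = ringKrullDim A) (x : A) (hreg : IsSMulRegular A x) :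
    IsSMulRegular (A ⧸ I) x := by
  obtain ⟨d, hd, -, -⟩ := LC.gorenstein_basic (R := A)
  have hdep : (d : ℕ∞) ≤ LocCoh.depth A (A ⧸ I) :=
    (LC.le_idealDepth_iff_H (maximalIdeal A) (A ⧸ I) d).2 fun i hi =>
      LC.Liaison.subsingleton_H_of_CM_quot I (hI.trans hd) i hi
  have hnot : ∀ p ∈ associatedPrimes A (A ⧸ I), x ∉ p := by
    intro p hp hxp
    have hpp : p.IsPrime := hp.isPrime
    have hmin : p ∈ minimalPrimes A := by
      refine ⟨⟨hpp, bot_le⟩, fun q ⟨hq, _⟩ hqp => ?_⟩
      by_contra hne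
      have hlt : (⟨q, hq⟩ : PrimeSpectrum A) < ⟨p, hpp⟩ := lt_of_le_not_ge hqp hne
      have h1 := Order.coheight_add_one_le hlt
      have h2 := hdep.trans (LC.depth_le_coheight_of_ass (M := A ⧸ I) (p := ⟨p, hpp⟩) hp)
      have h3 : ((Order.coheight (⟨q, hq⟩ : PrimeSpectrum A) : ℕ∞) : WithBot ℕ∞) ≤ ringKrullDim A :=
        Order.coheight_le_krullDim _
      rw [hd] at h3
      have h4 : ((d : ℕ∞) + 1) ≤ (d : ℕ∞) :=
        ((add_le_add h2 le_rfl).trans h1).trans (by exact_mod_cast h3)
      exact absurd h4 (by exact_mod_cast Nat.not_succ_le_self d)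
    exact Set.disjoint_left.mp (Ideal.disjoint_nonZeroDivisors_of_mem_minimalPrimes hmin) hxp
      (mem_nonZeroDivisors_iff_right.mpr fun y hy => hreg (by
        show x • y = x • (0 : A)
        rw [smul_eq_mul, mul_comm, hy, smul_zero]))
  intro a b hab
  by_contra hne
  obtain ⟨p, hp, hle⟩ := exists_le_isAssociatedPrime_of_isNoetherianRing A (a - b) (sub_ne_zero.mpr hne)
  refine hnot p hp (hle ?_)
  rw [Submodule.mem_colon_singleton, Submodule.mem_bot, smul_sub, sub_eq_zero]
  exact hab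

set_option maxHeartbeats 800000 in
/-- Regular sequences cut the residual ideal correctly and stay regular on the quotient. -/
theorem residual_main : ∀ (n : ℕ) (A : Type u) [CommRing A] [LocCoh.IsGorensteinLocalRing A]
    (I : Ideal A) [LocCoh.IsCohenMacaulayLocalRing (A ⧸ I)],
    ringKrullDim (A ⧸ I) = ringKrullDim A → ∀ rs : List A, rs.length = n →
      (∀ r ∈ rs, r ∈ maximalIdeal A) → IsWeaklyRegular A rs →
      Submodule.colon (Ideal.ofList rs) (I : Set A) ≤ Submodule.annihilator I ⊔ Ideal.ofList rs ∧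
      Submodule.annihilator I ⊓ Ideal.ofList rs ≤ Ideal.ofList rs * Submodule.annihilator I ∧
      IsWeaklyRegular (A ⧸ I) rs := by
  intro n
  induction n with
  | zero =>
    intro A _ _ I _ hI rs hlen _ _
    rw [List.length_eq_zero_iff] at hlen
    subst hlen
    refine ⟨fun a ha => Ideal.mem_sup_left (Submodule.mem_annihilator.mpr fun i hi => ?_), ?_,
      IsWeaklyRegular.nil A _⟩
    · have h := Submodule.mem_colon.mp ha i hi
      rwa [Ideal.ofList_nil, Submodule.mem_bot] at h
    · rw [Ideal.ofList_nil, inf_bot_eq]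
      exact bot_le
  | succ n ih =>
    intro A _ _ I _ hI rs hlen hmem hreg
    match rs, hlen with
    | x :: rs, hlen =>
    obtain ⟨hxreg, hrs⟩ := (isWeaklyRegular_cons_iff A x rs).mp hreg
    have hxm : x ∈ maximalIdeal A := hmem x (List.mem_cons_self ..)
    let A₁ := A ⧸ Ideal.span {x}
    let σ : A →+* A₁ := Ideal.Quotient.mk _
    have hσ : Function.Surjective σ := Ideal.Quotient.mk_surjective
    have hσ0 : ∀ a, σ a = 0 ↔ ∃ e, x * e = a := fun a => by
      rw [Ideal.Quotient.eq_zero_iff_mem, Ideal.mem_span_singleton]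
      exact ⟨fun ⟨e, he⟩ => ⟨e, he.symm⟩, fun ⟨e, he⟩ => ⟨e, he.symm⟩⟩
    haveI : Nontrivial A₁ := Ideal.Quotient.nontrivial_iff.2 fun e =>
      (maximalIdeal.isMaximal A).ne_top (top_le_iff.1 (e ▸ (Ideal.span_singleton_le_iff_mem _).2 hxm))
    haveI : IsLocalRing A₁ := IsLocalRing.of_surjective' σ hσ
    haveI : IsNoetherianRing A₁ := Ideal.Quotient.isNoetherianRing _
    haveI : LocCoh.IsGorensteinLocalRing A₁ :=
      LC.gorenstein_of_surjective_span_singleton σ hσ hxm hxreg Ideal.mk_ker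
    let I₁ : Ideal A₁ := I.map σ
    have hxI := isSMulRegular_quotient I hI x hxreg
    have hxm' : Ideal.Quotient.mk I x ∈ maximalIdeal (A ⧸ I) :=
      map_maximalIdeal_of_surjective (Ideal.Quotient.mk I) Ideal.Quotient.mk_surjective ▸
        Ideal.mem_map_of_mem _ hxm
    have hxI' : IsSMulRegular (A ⧸ I) (Ideal.Quotient.mk I x) := fun a b h => hxI (by
      show x • a = x • b
      rw [Algebra.smul_def, Algebra.smul_def]
      exact h)
    let e₁ : ((A ⧸ I) ⧸ Ideal.span {Ideal.Quotient.mk I x}) ≃+* A₁ ⧸ I₁ :=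
      (Ideal.quotEquivOfEq (by rw [Ideal.map_span, Set.image_singleton])).trans
        (DoubleQuot.quotQuotEquivComm I (Ideal.span {x}))
    haveI : Nontrivial (A₁ ⧸ I₁) := by
      have : Nontrivial ((A ⧸ I) ⧸ Ideal.span {Ideal.Quotient.mk I x}) := Ideal.Quotient.nontrivial_iff.2 fun e =>
        (maximalIdeal.isMaximal (A ⧸ I)).ne_top (top_le_iff.1 (e ▸ (Ideal.span_singleton_le_iff_mem _).2 hxm'))
      exact e₁.toEquiv.symm.nontrivial
    haveI : IsLocalRing (A₁ ⧸ I₁) := IsLocalRing.of_surjective' _ Ideal.Quotient.mk_surjective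
    haveI : IsNoetherianRing (A₁ ⧸ I₁) := Ideal.Quotient.isNoetherianRing _
    haveI := GrpdSlice.isCMLocal_quotient hxm' hxI'
    haveI : LocCoh.IsCohenMacaulayLocalRing (A₁ ⧸ I₁) := LC.Liaison.isCMLocal_of_ringEquiv e₁
    have hI₁ : ringKrullDim (A₁ ⧸ I₁) = ringKrullDim A₁ := by
      rw [← ringKrullDim_eq_of_ringEquiv e₁]
      refine ENat.WithBot.add_one_cancel.mp ?_
      rw [ringKrullDim_quotient_span_singleton_succ_eq_ringKrullDim hxI' hxm',
        ringKrullDim_quotient_span_singleton_succ_eq_ringKrullDim hxreg hxm, hI]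
    have hlen' : (rs.map σ).length = n := by simpa using hlen
    have hmem₁ : ∀ r ∈ rs.map σ, r ∈ maximalIdeal A₁ := fun r hr => by
      obtain ⟨a, ha, rfl⟩ := List.mem_map.mp hr
      rw [← map_maximalIdeal_of_surjective σ hσ]
      exact Ideal.mem_map_of_mem _ (hmem a (List.mem_cons_of_mem _ ha))
    have heq : x • (⊤ : Submodule A A) = Ideal.span {x} := by
      rw [← Submodule.ideal_span_singleton_smul, Ideal.smul_eq_mul, Ideal.mul_top]
    have hreg₁ : IsWeaklyRegular A₁ (rs.map σ) :=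
      (isWeaklyRegular_map_algebraMap_iff A₁ A₁ rs).mpr
        (((Submodule.quotEquivOfEq _ _ heq).isWeaklyRegular_congr rs).mp hrs)
    obtain ⟨hcol, hinf, hwr⟩ := ih A₁ I₁ hI₁ (rs.map σ) hlen' hmem₁ hreg₁
    -- the residual ideal of the quotient
    have hJ₁ : Submodule.annihilator I₁ ≤ (Submodule.annihilator I).map σ := by
      intro b₁ hb₁
      obtain ⟨b, rfl⟩ := hσ b₁
      have hb : ∀ i : I, ∃ e, x * e = b * i := fun i => (hσ0 _).mp (by
        rw [map_mul]
        exact Submodule.mem_annihilator.mp hb₁ (σ i) (Ideal.mem_map_of_mem _ i.2))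
      choose g hg using hb
      have hcancel : ∀ p q, x * p = x * q → p = q := fun p q h => hxreg h
      let gl : I →ₗ[A] A :=
        { toFun := g
          map_add' := fun i j => hcancel _ _ (by rw [mul_add, hg, hg, hg, Submodule.coe_add, mul_add])
          map_smul' := fun r i => hcancel _ _ (by
            rw [hg, RingHom.id_apply, smul_eq_mul, mul_left_comm x, hg, Submodule.coe_smul, smul_eq_mul,
              mul_left_comm]) }
      obtain ⟨c, hc⟩ := exists_eq_mul I hI gl
      have hJ : b - x * c ∈ Submodule.annihilator I := Submodule.mem_annihilator.mpr fun i hi => by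
        rw [smul_eq_mul, sub_mul, ← hg ⟨i, hi⟩, mul_assoc, show g ⟨i, hi⟩ = c * i from hc ⟨i, hi⟩, sub_self]
      have : σ (b - x * c) = σ b := by
        rw [map_sub, show σ (x * c) = 0 from (hσ0 _).mpr ⟨c, rfl⟩, sub_zero]
      exact this ▸ Ideal.mem_map_of_mem _ hJ
    have hmapK : Ideal.ofList (rs.map σ) = (Ideal.ofList rs).map σ := (Ideal.map_ofList σ rs).symm
    refine ⟨fun a ha => ?_, fun z ⟨hzJ, hzK⟩ => ?_, ?_⟩
    · have h1 : σ a ∈ Submodule.colon (Ideal.ofList (rs.map σ)) (I₁ : Set A₁) := by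
        refine Submodule.mem_colon.mpr fun i₁ hi₁ => ?_
        obtain ⟨i, hi, rfl⟩ := (Ideal.mem_map_iff_of_surjective σ hσ).mp hi₁
        have h := Submodule.mem_colon.mp ha i hi
        rw [smul_eq_mul, Ideal.ofList_cons] at h
        obtain ⟨p, hp, q, hq, hpq⟩ := Submodule.mem_sup.mp h
        rw [hmapK, smul_eq_mul, ← map_mul, ← hpq, map_add, Ideal.Quotient.eq_zero_iff_mem.mpr hp, zero_add]
        exact Ideal.mem_map_of_mem _ hq
      obtain ⟨j₁, hj₁, k₁, hk₁, hjk⟩ := Submodule.mem_sup.mp (hcol h1)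
      obtain ⟨j, hj, rfl⟩ := (Ideal.mem_map_iff_of_surjective σ hσ).mp (hJ₁ hj₁)
      rw [hmapK] at hk₁
      obtain ⟨k, hk, rfl⟩ := (Ideal.mem_map_iff_of_surjective σ hσ).mp hk₁
      obtain ⟨e, he⟩ := (hσ0 (a - j - k)).mp (by rw [map_sub, map_sub, ← hjk]; ring)
      rw [Ideal.ofList_cons]
      rw [show a = j + (x * e + k) by rw [he]; ring]
      exact Submodule.add_mem_sup hj
        (Submodule.add_mem_sup (Ideal.mul_mem_right _ _ (Ideal.mem_span_singleton_self x)) hk)
    · rw [Ideal.ofList_cons] at hzK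
      obtain ⟨p, hp, q, hq, hpq⟩ := Submodule.mem_sup.mp hzK
      have hz1 : σ z ∈ Ideal.ofList (rs.map σ) * Submodule.annihilator I₁ := by
        refine hinf ⟨Submodule.mem_annihilator.mpr fun i₁ hi₁ => ?_, ?_⟩
        · obtain ⟨i, hi, rfl⟩ := (Ideal.mem_map_iff_of_surjective σ hσ).mp hi₁
          have h := Submodule.mem_annihilator.mp hzJ i hi
          rw [smul_eq_mul] at h
          rw [smul_eq_mul, ← map_mul, h, map_zero]
        · rw [hmapK, ← hpq, map_add, Ideal.Quotient.eq_zero_iff_mem.mpr hp, zero_add]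
          exact Ideal.mem_map_of_mem _ hq
      have hz2 : σ z ∈ (Ideal.ofList rs * Submodule.annihilator I).map σ := by
        rw [Ideal.map_mul, ← hmapK]
        exact Ideal.mul_mono le_rfl hJ₁ hz1
      obtain ⟨w, hw, hwz⟩ := (Ideal.mem_map_iff_of_surjective σ hσ).mp hz2
      obtain ⟨e, he⟩ := (hσ0 (z - w)).mp (by rw [map_sub, hwz, sub_self])
      have hwJ : w ∈ Submodule.annihilator I :=
        (Ideal.mul_le.mpr fun r _ v hv => Ideal.mul_mem_left _ r hv) hw
      have heJ : e ∈ Submodule.annihilator I := Submodule.mem_annihilator.mpr fun i hi => hxreg (by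
        show x • (e • i) = x • (0 : A)
        rw [smul_eq_mul, smul_eq_mul, ← mul_assoc, he, smul_zero, sub_mul,
          show z * i = 0 from Submodule.mem_annihilator.mp hzJ i hi,
          show w * i = 0 from Submodule.mem_annihilator.mp hwJ i hi, sub_zero])
      rw [Ideal.ofList_cons, Ideal.sup_mul, show z = x * e + w by rw [he]; ring]
      exact Submodule.add_mem_sup (Ideal.mul_mem_mul (Ideal.mem_span_singleton_self x) heJ) hw
    · refine (isWeaklyRegular_cons_iff (A ⧸ I) x rs).mpr ⟨hxI, ?_⟩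
      let φ : (A ⧸ I) →ₗ[A] A₁ ⧸ I₁ :=
        Submodule.liftQ I (Algebra.linearMap A (A₁ ⧸ I₁)) fun i hi => by
          show Ideal.Quotient.mk I₁ (σ i) = 0
          exact Ideal.Quotient.eq_zero_iff_mem.mpr (Ideal.mem_map_of_mem _ hi)
      have hφ : Function.Surjective φ := fun w => by
        obtain ⟨w, rfl⟩ := Ideal.Quotient.mk_surjective w
        obtain ⟨a, rfl⟩ := hσ w
        exact ⟨Submodule.Quotient.mk a, rfl⟩
      have hker : LinearMap.ker φ = x • (⊤ : Submodule A (A ⧸ I)) := by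
        ext w
        obtain ⟨a, rfl⟩ := Submodule.Quotient.mk_surjective _ w
        rw [LinearMap.mem_ker, Submodule.mem_smul_pointwise_iff_exists]
        constructor
        · intro h
          obtain ⟨i, hi, hia⟩ := (Ideal.mem_map_iff_of_surjective σ hσ).mp
            (Ideal.Quotient.eq_zero_iff_mem.mp h : σ a ∈ I₁)
          obtain ⟨e, he⟩ := (hσ0 (a - i)).mp (by rw [map_sub, hia, sub_self])
          refine ⟨Submodule.Quotient.mk e, trivial, ?_⟩
          rw [← Submodule.Quotient.mk_smul, Submodule.Quotient.eq, smul_eq_mul, he]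
          simpa using I.neg_mem hi
        · rintro ⟨v, -, hv⟩
          rw [← hv, map_smul, Algebra.smul_def]
          exact mul_eq_zero_of_left (by
            show Ideal.Quotient.mk I₁ (σ x) = 0
            rw [(hσ0 x).mpr ⟨1, mul_one x⟩, map_zero]) _
      exact (((Submodule.quotEquivOfEq _ _ hker.symm).trans
        (φ.quotKerEquivOfSurjective hφ)).isWeaklyRegular_congr rs).mpr
        ((isWeaklyRegular_map_algebraMap_iff A₁ (A₁ ⧸ I₁) rs).mp hwr)

/-- A maximal Cohen-Macaulay quotient is flat over a regular base under a flat local map. -/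
theorem flat_quotient (R A : Type u) [CommRing R] [IsRegularLocalRing R] [CommRing A] [Algebra R A]
    [LocCoh.IsGorensteinLocalRing A] [IsLocalHom (algebraMap R A)] [Module.Flat R A] (I : Ideal A)
    (hI : ringKrullDim (A ⧸ I) = ringKrullDim A) [LocCoh.IsCohenMacaulayLocalRing (A ⧸ I)] :
    Module.Flat R (A ⧸ I) := by
  obtain ⟨rs, hreg, hm⟩ := RegLoc6.exists_regularSequence_maximalIdeal R
  have hmem : ∀ r ∈ rs.map (algebraMap R A), r ∈ maximalIdeal A := fun r hr => by
    obtain ⟨a, ha, rfl⟩ := List.mem_map.mp hr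
    exact map_nonunit (algebraMap R A) a (hm ▸ Ideal.subset_span ha)
  obtain ⟨-, -, hw⟩ := residual_main _ A I hI (rs.map (algebraMap R A)) rfl hmem
    (hreg.1.of_flat (S := A))
  have hwR : IsWeaklyRegular (A ⧸ I) rs := (isWeaklyRegular_map_algebraMap_iff A (A ⧸ I) rs).mp hw
  refine LocalCrit.flat_of_le_jacobson (B := A) (maximalIdeal R)
    ((map_maximalIdeal_le (algebraMap R A)).trans (maximalIdeal_le_jacobson ⊥)) ?_
    (LocalCrit.keepsInjective_of_isMaximal _ _)
  rw [← hm]
  exact FlatLoc6.rTensor_ofList_injective rs hwR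

end Groth.Agent.ResidualLib
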