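import Groth.Agent.LC.LiaisonLink
import Groth.Agent.LC.ExtLoc
import Groth.Agent.LC.Annihilator

/-!
# Modules over Gorenstein rings of dimension at most one
-/

set_option autoImplicit false
set_option linter.style.haveILetI false

universe u

open IsLocalRing CategoryTheory

namespace Groth.Agent.ResidualLib

section Local

variable {A : Type u} [CommRing A] [LocCoh.IsGorensteinLocalRing A] (hdim : ringKrullDim A ≤ 1)

include hdim

/-- Over a local Gorenstein ring of dimension at most one, a module without first `Ext` into the ring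
has no torsion. -/
theorem eq_zero_of_smul_eq_zero_of_ext (C : Type u) [AddCommGroup C] [Module A C] [Module.Finite A C]
    (hC : Subsingleton (Abelian.Ext (ModuleCat.of A C) (ModuleCat.of A A) 1)) {t : A}
    (ht : t ∈ nonZeroDivisors A) {c : C} (htc : t • c = 0) : c = 0 := by
  by_contra hc
  obtain ⟨d, hd, hδ, -⟩ := LC.gorenstein_basic (R := A)
  obtain ⟨p, hp, hle⟩ := exists_le_isAssociatedPrime_of_isNoetherianRing A c hc
  have hpp : p.IsPrime := hp.isPrime
  have htp : t ∈ p := hle (by rw [Submodule.mem_colon_singleton, Submodule.mem_bot]; exact htc)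
  have hnmin : p ∉ minimalPrimes A := fun h =>
    Set.disjoint_left.mp (Ideal.disjoint_nonZeroDivisors_of_mem_minimalPrimes h) htp ht
  haveI : Ring.KrullDimLE 1 A := Ring.krullDimLE_iff.mpr hdim
  have hpm : p.IsMaximal := (Ring.krullDimLE_one_iff.mp ‹_› p hpp).resolve_left hnmin
  have hd1 : d = 1 := by
    rcases Nat.lt_or_ge d 1 with h | h
    · exfalso
      obtain rfl : d = 0 := by omega
      haveI : Ring.KrullDimLE 0 A := Ring.krullDimLE_iff.mpr hd.le
      exact hnmin (Ideal.mem_minimalPrimes_of_krullDimLE_zero p)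
    · have : (d : WithBot ℕ∞) ≤ 1 := hd ▸ hdim
      have : d ≤ 1 := by exact_mod_cast this
      omega
  subst hd1
  obtain ⟨g, hg⟩ := LC.isInjectiveHull_H_gorenstein (R := A) hd
  haveI := hg.isInjective
  obtain ⟨φ⟩ := LC.exists_localDuality (maximalIdeal A) 1 A _ (LinearMap.ringLmapEquivSelf A A _)
    (LC.subsingleton_H_low_of_depth hδ.ge) (fun N _ => LC.subsingleton_H_succ_of_ringKrullDim _ hd.le N)
    1 C 0 (by omega)
  have hH : ∀ i < 1, Subsingleton ((localCohomology (maximalIdeal A) i).obj (ModuleCat.of A C)) := by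
    intro i hi
    obtain rfl : i = 0 := by omega
    exact φ.injective.subsingleton
  have hdep : ((1 : ℕ) : ℕ∞) ≤ LocCoh.depth A C := (LC.le_idealDepth_iff_H (maximalIdeal A) C 1).2 hH
  have h := hdep.trans (LC.depth_le_coheight_of_ass (M := C) (p := ⟨p, hpp⟩) hp)
  rw [Order.coheight_eq_zero.mpr (PrimeSpectrum.isMax_iff.mpr hpm)] at h
  simp at h

/-- Over a local Gorenstein ring of dimension at most one, a torsion-free module has no first `Ext`
into the ring. -/
theorem subsingleton_ext_one_of_torsionFree (M : Type u) [AddCommGroup M] [Module A M] [Module.Finite A M]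
    (hM : ∀ t ∈ nonZeroDivisors A, ∀ z : M, t • z = 0 → z = 0) :
    Subsingleton (Abelian.Ext (ModuleCat.of A M) (ModuleCat.of A A) 1) := by
  obtain ⟨d, hd, hδ, -⟩ := LC.gorenstein_basic (R := A)
  refine LC.Liaison.ext_zero_of_H_low hd M ?_ 1 one_pos
  intro j hj
  have hd1 : d ≤ 1 := by
    have : (d : WithBot ℕ∞) ≤ 1 := hd ▸ hdim
    exact_mod_cast this
  obtain rfl : j = 0 := by omega
  obtain rfl : d = 1 := by omega
  -- an element of the maximal ideal regular on the ring
  have hne : ∃ t ∈ maximalIdeal A, t ∈ nonZeroDivisors A := by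
    obtain ⟨rs, hrs, hmem, hlen⟩ := LC.exists_idealDepth_eq_length (I := maximalIdeal A) (M := A)
      (LC.smul_top_ne_top_of_le_maximal le_rfl)
    obtain ⟨t, rs', rfl⟩ := List.exists_cons_of_ne_nil (l := rs) fun e => by
      subst e
      have h : LocCoh.depth A A = ((0 : ℕ) : ℕ∞) := hlen
      rw [hδ] at h
      exact absurd h (by decide)
    refine ⟨t, hmem t (List.mem_cons_self ..), mem_nonZeroDivisors_iff_right.mpr fun y hy => ?_⟩
    exact ((RingTheory.Sequence.isWeaklyRegular_cons_iff A t rs').mp hrs).1 (by
      show t • y = t • (0 : A)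
      rw [smul_eq_mul, mul_comm, hy, smul_zero])
  obtain ⟨t, htm, ht⟩ := hne
  have hreg : IsSMulRegular M t := fun a b hab => sub_eq_zero.mp (hM t ht _ (by
    rw [smul_sub, sub_eq_zero]
    exact hab))
  have hdep : ((1 : ℕ) : ℕ∞) ≤ LocCoh.depth A M := by
    rcases subsingleton_or_nontrivial M with h | h
    · exact (LC.le_idealDepth_iff_H (maximalIdeal A) M 1).2 fun i _ =>
        LC.subsingleton_H_of_subsingleton (maximalIdeal A) (ModuleCat.of A M) i
    · rw [LocCoh.depth, ← LC.idealDepth_quotSMulTop_add_one (maximalIdeal A) (M := M) htm hreg]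
      exact le_add_self
  exact (LC.le_idealDepth_iff_H (maximalIdeal A) M 1).1 hdep 0 (by omega)

end Local

section Global

variable {S : Type u} [CommRing S]

/-- Subsingleton `Ext` groups are stable under isomorphism of the second argument. -/
theorem subsingleton_ext_congr {X Y Y' : ModuleCat.{u} S} (e : Y ≅ Y') (i : ℕ)
    (h : Subsingleton (Abelian.Ext X Y i)) : Subsingleton (Abelian.Ext X Y' i) := by
  refine subsingleton_of_forall_eq 0 fun x => ?_
  have : x = (x.comp (Abelian.Ext.mk₀ e.inv) (add_zero i)).comp (Abelian.Ext.mk₀ e.hom) (add_zero i) := by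
    rw [Abelian.Ext.comp_assoc_of_second_deg_zero, Abelian.Ext.mk₀_comp_mk₀, e.inv_hom_id,
      Abelian.Ext.comp_mk₀_id]
  rw [this, @Subsingleton.elim _ h (x.comp _ _) 0, Abelian.Ext.zero_comp]

/-- The first `Ext` into the ring at a prime. -/
theorem exists_extOneLoc [IsNoetherianRing S] (T : Submonoid S) (M : Type u) [AddCommGroup M] [Module S M] [Module.Finite S M] :
    Subsingleton (LocalizedModule T (Abelian.Ext (ModuleCat.of S M) (ModuleCat.of S S) 1)) ↔
      Subsingleton (Abelian.Ext (ModuleCat.of (Localization T) (LocalizedModule T M))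
        (ModuleCat.of (Localization T) (Localization T)) 1) := by
  obtain ⟨e⟩ := LC.exists_extLoc T S 1 M
  constructor
  · intro h
    exact subsingleton_ext_congr (LC.selfLoc T).toModuleIso 1 e.symm.toEquiv.subsingleton
  · intro h
    have := subsingleton_ext_congr (LC.selfLoc T).toModuleIso.symm 1 h
    exact e.toEquiv.subsingleton

variable [LocCoh.IsGorensteinRing S] (hdim : ringKrullDim S ≤ 1)

include hdim

omit [LocCoh.IsGorensteinRing S] in
theorem dim_atPrime_le (p : Ideal S) [p.IsPrime] : ringKrullDim (Localization.AtPrime p) ≤ 1 := by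
  refine le_trans (Order.krullDim_le_of_strictMono
    (PrimeSpectrum.comap (algebraMap S (Localization.AtPrime p))) ?_) hdim
  refine Monotone.strictMono_of_injective (fun q q' hq => Ideal.comap_mono hq) ?_
  exact PrimeSpectrum.localization_comap_injective (Localization.AtPrime p) p.primeCompl

/-- A torsionless module over a Gorenstein ring of dimension at most one has no first `Ext` into it. -/
theorem subsingleton_ext_one_of_torsionless (M : Type u) [AddCommGroup M] [Module S M] [Module.Finite S M]
    (hM : Function.Injective (Module.Dual.eval S M)) :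
    Subsingleton (Abelian.Ext (ModuleCat.of S M) (ModuleCat.of S S) 1) := by
  classical
  obtain ⟨n, g, hg⟩ := Submodule.fg_iff_exists_fin_generating_family.1
    (IsNoetherian.noetherian (⊤ : Submodule S (Module.Dual S M)))
  let f : M →ₗ[S] (Fin n → S) := LinearMap.pi g
  have hf : Function.Injective f := by
    rw [injective_iff_map_eq_zero]
    intro z hz
    refine hM ?_
    rw [map_zero]
    refine LinearMap.ext fun φ => ?_
    have hφ : φ ∈ Submodule.span S (Set.range g) := hg ▸ Submodule.mem_top
    show φ z = 0
    induction hφ using Submodule.span_induction with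
    | mem φ h => obtain ⟨i, rfl⟩ := h; exact congrFun hz i
    | zero => rfl
    | add a b _ _ ha hb => rw [LinearMap.add_apply, ha, hb, add_zero]
    | smul r a _ ha => rw [LinearMap.smul_apply, ha, smul_zero]
  rw [← Module.support_eq_empty_iff (R := S), Set.eq_empty_iff_forall_notMem]
  intro p hp
  rw [Module.mem_support_iff] at hp
  haveI := LocCoh.IsGorensteinRing.isGorensteinLocalRing_localization (A := S) p.asIdeal
  let T := p.asIdeal.primeCompl
  haveI : Module.Finite (Localization T) (LocalizedModule T M) :=
    Module.Finite.of_isLocalizedModule T (LocalizedModule.mkLinearMap T M)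
  refine not_nontrivial_iff_subsingleton.mpr ((exists_extOneLoc T M).mpr ?_) hp
  refine subsingleton_ext_one_of_torsionFree (dim_atPrime_le hdim p.asIdeal) _ fun t ht z hz => ?_
  let ι : (Fin n → S) →ₗ[S] (Fin n → Localization T) :=
    LinearMap.pi fun i => Algebra.linearMap S (Localization T) ∘ₗ LinearMap.proj i
  let fT := IsLocalizedModule.mapExtendScalars T (LocalizedModule.mkLinearMap T M) ι (Localization T) f
  have hfT : Function.Injective fT := IsLocalizedModule.map_injective T _ _ f hf
  refine hfT ?_
  rw [map_zero]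
  funext i
  have h := congrFun (congrArg fT hz) i
  rw [map_smul, map_zero, Pi.smul_apply, Pi.zero_apply, smul_eq_mul] at h
  exact mem_nonZeroDivisors_iff_right.mp ht _ (by rwa [mul_comm])

set_option maxHeartbeats 800000 in
/-- Over a Gorenstein ring of dimension at most one a finite module that is reflexive up to a
nonzerodivisor is reflexive. -/
theorem isReflexive_of_smul_mem_range (M : Type u) [AddCommGroup M] [Module S M] [Module.Finite S M]
    (hM : Function.Injective (Module.Dual.eval S M))
    (hrange : ∀ y : Module.Dual S (Module.Dual S M), ∃ t ∈ nonZeroDivisors S,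
      t • y ∈ LinearMap.range (Module.Dual.eval S M)) : Module.IsReflexive S M := by
  classical
  obtain ⟨n, g, hg⟩ := Submodule.fg_iff_exists_fin_generating_family.1
    (IsNoetherian.noetherian (⊤ : Submodule S (Module.Dual S M)))
  let f : M →ₗ[S] (Fin n → S) := LinearMap.pi g
  have hdet : ∀ (ψ ψ' : Module.Dual S (Module.Dual S M)), (∀ i, ψ (g i) = ψ' (g i)) → ψ = ψ' := by
    intro ψ ψ' h
    refine LinearMap.ext fun φ => ?_
    have hφ : φ ∈ Submodule.span S (Set.range g) := hg ▸ Submodule.mem_top
    induction hφ using Submodule.span_induction with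
    | mem φ h' => obtain ⟨i, rfl⟩ := h'; exact h i
    | zero => rw [map_zero, map_zero]
    | add a b _ _ ha hb => rw [map_add, map_add, ha, hb]
    | smul r a _ ha => rw [map_smul, map_smul, ha]
  have hf : Function.Injective f := by
    rw [injective_iff_map_eq_zero]
    intro z hz
    exact hM ((hdet _ _ fun i => (congrFun hz i : g i z = 0).trans (LinearMap.zero_apply _).symm).trans
      (map_zero _).symm)
  let C := (Fin n → S) ⧸ LinearMap.range f
  let T : ShortComplex (ModuleCat.{u} S) := ShortComplex.mk (ModuleCat.ofHom f)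
    (ModuleCat.ofHom (LinearMap.range f).mkQ)
    (ModuleCat.hom_ext (LinearMap.ext fun z => (Submodule.Quotient.mk_eq_zero _).2 ⟨z, rfl⟩))
  have hT : T.ShortExact :=
    { exact := (ShortComplex.ShortExact.moduleCat_exact_iff_function_exact _).2
        (LinearMap.exact_map_mkQ_range f)
      mono_f := (ModuleCat.mono_iff_injective _).2 hf
      epi_g := (ModuleCat.epi_iff_surjective _).2 (Submodule.mkQ_surjective _) }
  have hC : Subsingleton (Abelian.Ext (ModuleCat.of S C) (ModuleCat.of S S) 1) := by
    refine subsingleton_of_forall_eq 0 fun x => ?_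
    obtain ⟨x₁, rfl⟩ := Abelian.Ext.contravariant_sequence_exact₃ hT (ModuleCat.of S S) x
      (@Subsingleton.elim _ (LC.subsingleton_ext_free n 0 (ModuleCat.of S S)) _ _) (n₀ := 0) rfl
    obtain ⟨h, rfl⟩ := (Abelian.Ext.mk₀_bijective _ _).2 x₁
    -- every functional on `M` extends
    have hext : ∃ k : (Fin n → S) →ₗ[S] S, k ∘ₗ f = h.hom := by
      have hh : h.hom ∈ Submodule.span S (Set.range g) := hg ▸ Submodule.mem_top
      obtain ⟨c, hc⟩ := (Submodule.mem_span_range_iff_exists_fun S).mp hh
      refine ⟨∑ i, c i • LinearMap.proj i, ?_⟩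
      rw [← hc]
      ext z
      simp [f]
    obtain ⟨k, hk⟩ := hext
    rw [show h = T.f ≫ ModuleCat.ofHom k from ModuleCat.hom_ext hk.symm,
      ← Abelian.Ext.mk₀_comp_mk₀]
    exact hT.extClass_comp_assoc _
  refine ⟨hM, fun y => ?_⟩
  -- the class of `y` in the cokernel vanishes
  let c : C := Submodule.Quotient.mk fun i => y (g i)
  obtain ⟨t, ht, x₀, hx₀⟩ := hrange y
  have htc : t • c = 0 := by
    rw [← Submodule.Quotient.mk_smul, Submodule.Quotient.mk_eq_zero]
    refine ⟨x₀, funext fun i => ?_⟩
    exact LinearMap.congr_fun hx₀ (g i)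
  suffices hc : c = 0 by
    obtain ⟨x, hx⟩ := (Submodule.Quotient.mk_eq_zero _).mp hc
    exact ⟨x, hdet _ _ fun i => congrFun hx i⟩
  refine Module.eq_zero_of_localization_maximal (R := S)
    (fun P [P.IsMaximal] => LocalizedModule P.primeCompl C)
    (fun P [P.IsMaximal] => LocalizedModule.mkLinearMap P.primeCompl C) c fun P hP => ?_
  haveI := LocCoh.IsGorensteinRing.isGorensteinLocalRing_localization (A := S) P
  haveI : Module.Finite (Localization.AtPrime P) (LocalizedModule P.primeCompl C) :=
    Module.Finite.of_isLocalizedModule P.primeCompl (LocalizedModule.mkLinearMap P.primeCompl C)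
  refine eq_zero_of_smul_eq_zero_of_ext (dim_atPrime_le hdim P) _
    ((exists_extOneLoc P.primeCompl C).mp inferInstance)
    (t := algebraMap S (Localization.AtPrime P) t)
    (IsLocalization.map_nonZeroDivisors_le P.primeCompl _ ⟨t, ht, rfl⟩) ?_
  rw [algebraMap_smul, ← map_smul, htc, map_zero]

end Global

end Groth.Agent.ResidualLib
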